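import Mathlib
import Cfsg.Agent.Lib.Helper11.FrobDerived
import Cfsg.Agent.Lib.Helper1.Frat
import Cfsg.Agent.Lib.Helper1.Fitting
import Cfsg.Agent.S0029
import Cfsg.Agent.S3769

set_option autoImplicit false

namespace Cfsg.Agent.Lib.Helper1.BG11

open Cfsg.Agent.Lib

variable {X : Type*} [Group X]

theorem card_map_of_inf_ker {Y : Type*} [Group Y] (f : X →* Y) (H : Subgroup X)
    (h : H ⊓ f.ker = ⊥) : Nat.card (H.map f) = Nat.card H := by
  have hinj : Function.Injective (f.subgroupMap H) := by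
    rw [injective_iff_map_eq_one]
    intro a ha
    have h1 : f (a : X) = 1 := by
      have := congrArg Subtype.val ha
      simpa using this
    have h2 : (a : X) ∈ H ⊓ f.ker := Subgroup.mem_inf.mpr ⟨a.2, MonoidHom.mem_ker.mpr h1⟩
    rw [h, Subgroup.mem_bot] at h2
    exact Subtype.ext h2
  exact (Nat.card_congr (Equiv.ofBijective _ ⟨hinj, f.subgroupMap_surjective H⟩)).symm

theorem map_inf_of_inf_ker {Y : Type*} [Group Y] (f : X →* Y) (Γ K R : Subgroup X)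
    (hK : K ≤ Γ) (hR : R ≤ Γ) (h : Γ ⊓ f.ker = ⊥) : K.map f ⊓ R.map f = (K ⊓ R).map f := by
  apply le_antisymm
  · intro y hy
    obtain ⟨⟨k, hk, rfl⟩, ⟨r, hr, hkr⟩⟩ := Subgroup.mem_inf.mp hy
    have h1 : k⁻¹ * r ∈ Γ ⊓ f.ker := by
      refine Subgroup.mem_inf.mpr ⟨Γ.mul_mem (Γ.inv_mem (hK hk)) (hR hr), ?_⟩
      rw [MonoidHom.mem_ker, map_mul, map_inv, hkr, inv_mul_cancel]
    rw [h, Subgroup.mem_bot] at h1
    have h2 : r = k := by
      have := congrArg (fun t => k * t) h1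
      simpa using this
    exact ⟨k, Subgroup.mem_inf.mpr ⟨hk, h2 ▸ hr⟩, rfl⟩
  · exact Subgroup.map_inf_le _ _ f

theorem relIndex_map_of_inf_ker {Y : Type*} [Group Y] [Finite X] (f : X →* Y) (Γ K : Subgroup X)
    (hK : K ≤ Γ) (h : Γ ⊓ f.ker = ⊥) : (K.map f).relIndex (Γ.map f) = K.relIndex Γ := by
  have hK0 : K ⊓ f.ker = ⊥ := by
    rw [eq_bot_iff, ← h]
    exact inf_le_inf_right _ hK
  have h1 := Helper1.card_mul_relIndex_of_le (Subgroup.map_mono (f := f) hK)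
  have h2 := Helper1.card_mul_relIndex_of_le hK
  rw [card_map_of_inf_ker f K hK0, card_map_of_inf_ker f Γ h, ← h2] at h1
  exact Nat.eq_of_mul_eq_mul_left Nat.card_pos h1

theorem hh_normal [Finite X] (s : ℕ) [hs : Fact s.Prime] (Γ K R S : Subgroup X) [hSn : S.Normal]
    (hsolv : Group.IsSolvable Γ) (hodd : Odd (Nat.card Γ)) (hS : IsPGroup s S)
    (hsΓ : ¬ s ∣ Nat.card Γ) (hKΓ : K ≤ Γ) (hKn : Γ ≤ Subgroup.normalizer (K : Set X))
    (hHall : (Nat.card K).Coprime (K.relIndex Γ)) (hRΓ : R ≤ Γ) (hR : (Nat.card R).Prime)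
    (hKR : K ⊓ R = ⊥) (hKRΓ : K ⊔ R = Γ)
    (hCV : S ⊓ Subgroup.centralizer (R : Set X) = ⊥) :
    ⁅R, K⁆ ≤ Subgroup.centralizer (S : Set X) := by
  obtain ⟨N, hN⟩ : ∃ N : Subgroup X, N = (frattini S).map S.subtype := ⟨_, rfl⟩
  have hNn : N.Normal := by
    rw [hN]
    exact ConjAct.normal_of_characteristic_of_normal
  have hNS : N ≤ S := by
    rw [hN]
    exact Subgroup.map_subtype_le _
  have hNp : IsPGroup s N := hS.to_le hNS
  have hcopS : ∀ A : Subgroup X, ¬ s ∣ Nat.card A → ∀ T : Subgroup X, IsPGroup s T →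
      (Nat.card A).Coprime (Nat.card T) := by
    intro A hA T hT
    obtain ⟨k, hk⟩ := hT.exists_card_eq
    rw [hk]
    apply Nat.Coprime.pow_right
    exact ((Nat.Prime.coprime_iff_not_dvd hs.out).mpr hA).symm
  have hSsolv : Group.IsSolvable S := by
    have := hS.isNilpotent
    infer_instance
  obtain ⟨π, hπ⟩ : ∃ π : X →* X ⧸ N, π = QuotientGroup.mk' N := ⟨_, rfl⟩
  have hπ1 : ∀ x : X, π x = 1 ↔ x ∈ N := by
    intro x
    rw [hπ]
    exact QuotientGroup.eq_one_iff x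
  have hker : π.ker = N := by
    rw [hπ]
    exact QuotientGroup.ker_mk' N
  have hΓN : Γ ⊓ π.ker = ⊥ := by
    rw [hker]
    have hc : (Nat.card (Γ ⊓ N : Subgroup X)).Coprime (Nat.card (Γ ⊓ N : Subgroup X)) := by
      apply Nat.Coprime.coprime_dvd_left (Subgroup.card_dvd_of_le (inf_le_left : Γ ⊓ N ≤ Γ))
      apply Nat.Coprime.coprime_dvd_right (Subgroup.card_dvd_of_le (inf_le_right : Γ ⊓ N ≤ N))
      exact hcopS Γ hsΓ N hNp
    rw [Nat.coprime_self] at hc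
    exact Subgroup.card_eq_one.mp hc
  have hVn : (S.map π).Normal := by
    rw [hπ]
    exact Subgroup.Normal.map hSn _ (QuotientGroup.mk'_surjective N)
  have hVc : ∀ x ∈ S.map π, ∀ y ∈ S.map π, x * y = y * x := by
    rintro _ ⟨x, hx, rfl⟩ _ ⟨y, hy, rfl⟩
    have h1 : (⟨x, hx⟩ : S) * ⟨y, hy⟩ * (⟨x, hx⟩ : S)⁻¹ * (⟨y, hy⟩ : S)⁻¹ ∈ frattini S := by
      apply Cfsg.Agent.Lib.Helper1.pgroup_commutator_le_frattini hS
      rw [commutator_def]
      have := Subgroup.commutator_mem_commutator (Subgroup.mem_top (⟨x, hx⟩ : S))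
        (Subgroup.mem_top (⟨y, hy⟩ : S))
      rw [commutatorElement_def] at this
      exact this
    have h2 : x * y * x⁻¹ * y⁻¹ ∈ N := by
      rw [hN]
      exact ⟨_, h1, rfl⟩
    have h3 := (hπ1 _).mpr h2
    rw [map_mul, map_mul, map_mul, map_inv, map_inv] at h3
    calc π x * π y = (π x * π y * (π x)⁻¹ * (π y)⁻¹) * (π y * π x) := by group
      _ = π y * π x := by rw [h3, one_mul]
  have hVe : ∀ x ∈ S.map π, x ^ s = 1 := by
    rintro _ ⟨x, hx, rfl⟩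
    have h1 : (⟨x, hx⟩ : S) ^ s ∈ frattini S :=
      Cfsg.Agent.Lib.Helper1.pgroup_pow_mem_frattini hS _
    have h2 : x ^ s ∈ N := by
      rw [hN]
      exact ⟨_, h1, rfl⟩
    rw [← map_pow]
    exact (hπ1 _).mpr h2
  have hVel : Cfsg.IsElementaryAbelian s (S.map π) :=
    ⟨⟨⟨fun a b => Subtype.ext (hVc a.1 a.2 b.1 b.2)⟩⟩, hVe⟩
  have hsolv' : Group.IsSolvable (Γ.map π) := by
    haveI := hsolv
    exact solvable_of_surjective (π.subgroupMap_surjective Γ)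
  have hodd' : Odd (Nat.card (Γ.map π)) := Odd.of_dvd_nat hodd (Subgroup.card_map_dvd _ _)
  have hsΓ' : ¬ s ∣ Nat.card (Γ.map π) := fun h => hsΓ (h.trans (Subgroup.card_map_dvd _ _))
  have hΓV : Γ.map π ≤ Subgroup.normalizer ((S.map π : Subgroup (X ⧸ N)) : Set (X ⧸ N)) := by
    rw [Subgroup.normalizer_eq_top]
    exact le_top
  have hKn' : Γ.map π ≤ Subgroup.normalizer ((K.map π : Subgroup (X ⧸ N)) : Set (X ⧸ N)) :=
    (Subgroup.map_mono hKn).trans (Subgroup.le_normalizer_map _)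
  have hK0 : K ⊓ π.ker = ⊥ := by
    rw [eq_bot_iff, ← hΓN]
    exact inf_le_inf_right _ hKΓ
  have hR0 : R ⊓ π.ker = ⊥ := by
    rw [eq_bot_iff, ← hΓN]
    exact inf_le_inf_right _ hRΓ
  have hHall' : (Nat.card (K.map π)).Coprime ((K.map π).relIndex (Γ.map π)) := by
    rw [relIndex_map_of_inf_ker π Γ K hKΓ hΓN, card_map_of_inf_ker π K hK0]
    exact hHall
  have hR' : (Nat.card (R.map π)).Prime := by
    rw [card_map_of_inf_ker π R hR0]
    exact hR
  have hKR' : K.map π ⊓ R.map π = ⊥ := by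
    rw [map_inf_of_inf_ker π Γ K R hKΓ hRΓ hΓN, hKR, Subgroup.map_bot]
  have hKRΓ' : K.map π ⊔ R.map π = Γ.map π := by
    rw [← Subgroup.map_sup, hKRΓ]
  have hsR : ¬ s ∣ Nat.card R := fun h => hsΓ (h.trans (Subgroup.card_dvd_of_le hRΓ))
  have hCV' : S.map π ⊓ Subgroup.centralizer ((R.map π : Subgroup (X ⧸ N)) : Set (X ⧸ N)) = ⊥ := by
    rw [hπ, ← Helper11.FrobDerived.map_fixed_quot N S R hNS
      (by rw [Subgroup.normalizer_eq_top]; exact le_top) (hcopS R hsR S hS) hSsolv, hCV,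
      Subgroup.map_bot]
  have hder := Cfsg.Agent.S3769.result (Γ.map π) hsolv' hodd' (S.map π) hs.out hVel hsΓ' hΓV
    (K.map π) (R.map π) (Subgroup.map_mono hKΓ) hKn' hHall' (Subgroup.map_mono hRΓ) hR' hKR'
    hKRΓ' hCV'
  have hRKΓ : ⁅R, K⁆ ≤ Γ := by
    rw [Subgroup.commutator_le]
    intro a ha b hb
    exact Γ.mul_mem (Γ.mul_mem (Γ.mul_mem (hRΓ ha) (hKΓ hb)) (Γ.inv_mem (hRΓ ha)))
      (Γ.inv_mem (hKΓ hb))
  apply Cfsg.Agent.S0029.result ⁅R, K⁆ S (by rw [Subgroup.normalizer_eq_top]; exact le_top)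
  · have h2 : ¬ s ∣ Nat.card ↥⁅R, K⁆ := fun h => hsΓ (h.trans (Subgroup.card_dvd_of_le hRKΓ))
    have h3 : Nat.card ↥(frattini ↥S) = Nat.card N := by
      rw [hN]
      exact (Subgroup.card_map_of_injective S.subtype_injective).symm
    rw [h3]
    exact hcopS _ h2 N hNp
  · intro a ha k hk
    rw [← hN, ← hπ1]
    have h1 : π a ∈ ⁅R.map π, K.map π⁆ := by
      rw [← Subgroup.map_commutator]
      exact Subgroup.mem_map_of_mem _ ha
    have h2 := (Subgroup.mem_centralizer_iff.mp (hder h1)) _ (Subgroup.mem_map_of_mem π hk)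
    rw [map_mul, map_mul, map_mul, map_inv, map_inv, ← h2]
    group

end Cfsg.Agent.Lib.Helper1.BG11
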