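import Mathlib
import Cfsg.Agent.Lib.Helper1.BG11.HHNil

set_option autoImplicit false

namespace Cfsg.Agent.Lib.Helper1.BG11

open Cfsg.Agent.Lib
open scoped commutatorElement

variable {X : Type*} [Group X]

theorem hh_nilpotent_normal [Finite X] (Γ K R V : Subgroup X) [hVn : V.Normal]
    (hsolv : Group.IsSolvable Γ) (hodd : Odd (Nat.card Γ)) (hVnil : Group.IsNilpotent V)
    (hcop : (Nat.card Γ).Coprime (Nat.card V)) (hKΓ : K ≤ Γ)
    (hKn : Γ ≤ Subgroup.normalizer (K : Set X))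
    (hHall : (Nat.card K).Coprime (K.relIndex Γ)) (hRΓ : R ≤ Γ) (hR : (Nat.card R).Prime)
    (hKR : K ⊓ R = ⊥) (hKRΓ : K ⊔ R = Γ)
    (hCV : V ⊓ Subgroup.centralizer (R : Set X) = ⊥) :
    ⁅R, K⁆ ≤ Subgroup.centralizer (V : Set X) := by
  rw [Subgroup.le_centralizer_iff]
  have h1 : V = (⊤ : Subgroup V).map V.subtype := by
    rw [← MonoidHom.range_eq_map, Subgroup.range_subtype]
  rw [h1, ← Cfsg.Agent.Lib.Helper1.iSup_sylow_eq_top, Subgroup.map_iSup]
  apply iSup_le
  intro p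
  rw [Subgroup.map_iSup]
  apply iSup_le
  intro P
  have hpF : Fact (p : ℕ).Prime := ⟨p.2⟩
  obtain ⟨k, hk⟩ := P.isPGroup'.exists_card_eq
  rcases Nat.eq_zero_or_pos k with h0 | h0
  · rw [h0, pow_zero] at hk
    rw [Subgroup.card_eq_one.mp hk, Subgroup.map_bot]
    exact bot_le
  have hpV : (p : ℕ) ∣ Nat.card V := by
    have h2 : (p : ℕ) ∣ Nat.card (P : Subgroup V) := by
      rw [hk]
      exact dvd_pow_self _ h0.ne'
    exact h2.trans (Subgroup.card_subgroup_dvd_card _)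
  have hΓp : ¬ (p : ℕ) ∣ Nat.card Γ := by
    intro h
    have := Nat.dvd_gcd h hpV
    rw [hcop] at this
    exact p.2.one_lt.ne' (Nat.dvd_one.mp this)
  have hPn : (P : Subgroup V).Normal := by
    have q := (Group.isNilpotent_of_finite_tfae (G := V)).out 0 3
    exact (q.mp hVnil) (p : ℕ) hpF P
  have hPc : (P : Subgroup V).Characteristic := Sylow.characteristic_of_normal P hPn
  have hSV : (P : Subgroup V).map V.subtype ≤ V := Subgroup.map_subtype_le _
  haveI hSn : ((P : Subgroup V).map V.subtype).Normal :=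
    ConjAct.normal_of_characteristic_of_normal
  rw [← Subgroup.le_centralizer_iff]
  apply hh_normal (p : ℕ) Γ K R ((P : Subgroup V).map V.subtype) hsolv hodd
    (P.isPGroup'.map _) hΓp hKΓ hKn hHall hRΓ hR hKR hKRΓ
  rw [eq_bot_iff, ← hCV]
  exact inf_le_inf_right _ hSV

theorem inf_subgroupOf_eq (N K R : Subgroup X) :
    K.subgroupOf N ⊓ R.subgroupOf N = (K ⊓ R).subgroupOf N := by
  ext x
  simp only [Subgroup.mem_inf, Subgroup.mem_subgroupOf]

theorem sup_subgroupOf_eq' (N K R : Subgroup X) (hK : K ≤ N) (hR : R ≤ N) :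
    K.subgroupOf N ⊔ R.subgroupOf N = (K ⊔ R).subgroupOf N := by
  apply le_antisymm
  · apply sup_le
    · exact Subgroup.subgroupOf_mono N le_sup_left
    · exact Subgroup.subgroupOf_mono N le_sup_right
  · have h1 : (K ⊔ R).subgroupOf N = ((K.subgroupOf N ⊔ R.subgroupOf N).map N.subtype).subgroupOf N := by
      rw [Subgroup.map_sup, Subgroup.map_subgroupOf_eq_of_le hK,
        Subgroup.map_subgroupOf_eq_of_le hR]
    rw [h1]
    intro x hx
    rw [Subgroup.mem_subgroupOf] at hx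
    obtain ⟨y, hy, hxy⟩ := hx
    have : y = x := Subtype.ext hxy
    rwa [← this]

theorem hh_nilpotent [Finite X] (Γ K R V : Subgroup X)
    (hsolv : Group.IsSolvable Γ) (hodd : Odd (Nat.card Γ)) (hVnil : Group.IsNilpotent V)
    (hΓV : Γ ≤ Subgroup.normalizer (V : Set X))
    (hcop : (Nat.card Γ).Coprime (Nat.card V)) (hKΓ : K ≤ Γ)
    (hKn : Γ ≤ Subgroup.normalizer (K : Set X))
    (hHall : (Nat.card K).Coprime (K.relIndex Γ)) (hRΓ : R ≤ Γ) (hR : (Nat.card R).Prime)
    (hKR : K ⊓ R = ⊥) (hKRΓ : K ⊔ R = Γ)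
    (hCV : V ⊓ Subgroup.centralizer (R : Set X) = ⊥) :
    ⁅R, K⁆ ≤ Subgroup.centralizer (V : Set X) := by
  obtain ⟨N, hN⟩ : ∃ N : Subgroup X, N = Subgroup.normalizer (V : Set X) := ⟨_, rfl⟩
  have hVN : V ≤ N := hN ▸ Subgroup.le_normalizer
  have hΓN : Γ ≤ N := hN ▸ hΓV
  have hKN : K ≤ N := hKΓ.trans hΓN
  have hRN : R ≤ N := hRΓ.trans hΓN
  have hVn : (V.subgroupOf N).Normal :=
    Subgroup.normal_subgroupOf_of_le_normalizer (hN ▸ le_rfl)
  have key := hh_nilpotent_normal (Γ.subgroupOf N) (K.subgroupOf N) (R.subgroupOf N)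
    (V.subgroupOf N)
    (by
      have := hsolv
      exact solvable_of_surjective (f := (Subgroup.subgroupOfEquivOfLe hΓN).symm.toMonoidHom)
        (Subgroup.subgroupOfEquivOfLe hΓN).symm.surjective)
    (by rw [Helper11.FrobConcCore.card_subgroupOf_eq hΓN]; exact hodd)
    ((Group.isNilpotent_congr (Subgroup.subgroupOfEquivOfLe hVN)).mpr hVnil)
    (by
      rw [Helper11.FrobConcCore.card_subgroupOf_eq hΓN,
        Helper11.FrobConcCore.card_subgroupOf_eq hVN]
      exact hcop)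
    (Subgroup.subgroupOf_mono N hKΓ)
    (by
      rw [Subgroup.le_normalizer_iff]
      intro e he u hu
      rw [Subgroup.mem_subgroupOf] at he hu ⊢
      simp only [Subgroup.coe_mul, InvMemClass.coe_inv]
      exact (Subgroup.le_normalizer_iff.mp hKn) _ he _ hu)
    (by
      rw [Subgroup.relIndex_subgroupOf hΓN, Helper11.FrobConcCore.card_subgroupOf_eq hKN]
      exact hHall)
    (Subgroup.subgroupOf_mono N hRΓ)
    (by rw [Helper11.FrobConcCore.card_subgroupOf_eq hRN]; exact hR)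
    (by rw [inf_subgroupOf_eq, hKR, Subgroup.bot_subgroupOf])
    (by rw [sup_subgroupOf_eq' N K R hKN hRN, hKRΓ])
    (by
      rw [Helper11.FrobFourTerm2.inf_centralizer_subgroupOf N V R hRN, hCV,
        Subgroup.bot_subgroupOf])
  rw [Subgroup.commutator_le]
  intro a ha b hb
  have h1 : ⁅(⟨a, hRN ha⟩ : N), (⟨b, hKN hb⟩ : N)⁆ ∈ ⁅R.subgroupOf N, K.subgroupOf N⁆ :=
    Subgroup.commutator_mem_commutator (Subgroup.mem_subgroupOf.mpr ha)
      (Subgroup.mem_subgroupOf.mpr hb)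
  have h2 := key h1
  rw [Subgroup.mem_centralizer_iff] at h2 ⊢
  intro x hx
  have h3 := h2 ⟨x, hVN hx⟩ (by rw [SetLike.mem_coe, Subgroup.mem_subgroupOf]; exact hx)
  exact congrArg Subtype.val h3

end Cfsg.Agent.Lib.Helper1.BG11
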