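import Mathlib
import Cfsg.Agent.Lib.Helper1.BG10.TenNine
import Cfsg.Agent.Lib.Helper21.NarrowF
import Cfsg.Agent.S1444

set_option autoImplicit false

namespace Cfsg.Agent.Lib.Helper1.BG11

open Cfsg.Agent.Lib Cfsg.Agent.Lib.Helper1.BG10

universe u

theorem thm36_all (Γ : Type u) [Group Γ] [Finite Γ] : Helper11.BenderS.Thm36 Γ := by
  intro hs hodd H R R₀ hHn hcop hR hR₀ hR₀p hZ p hp
  haveI := hs
  haveI := hHn
  haveI : Fact p.Prime := ⟨hp⟩
  exact Cfsg.Agent.S1444.result hodd H R R₀ hcop hR hR₀ hR₀p hZ p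

variable {G : Type u} [Group G] [Finite G]

theorem h36_all : ∀ M : Subgroup G, IsCoatom M → Helper11.BenderS.Thm36 ↥M :=
  fun M _ => thm36_all ↥M

theorem isPGroup_of_piGroup_singleton (q : ℕ) (Q : Subgroup G)
    (h : ∀ r : ℕ, r.Prime → r ∣ Nat.card Q → r ∈ ({q} : Set ℕ)) : IsPGroup q Q := by
  have h0 : Nat.card Q ≠ 0 := Nat.card_pos.ne'
  have := Nat.eq_prime_pow_of_unique_prime_dvd h0 (p := q) (fun {d} hd hdvd => h d hd hdvd)
  exact IsPGroup.of_card this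

theorem ten_nine_c (hG : Cfsg.IsMinSimpleOddOrder G) (p : ℕ) [hp : Fact p.Prime]
    (A : Subgroup G) (hAe : Cfsg.IsElementaryAbelian p A) (hAc : Nat.card A = p ^ 2)
    (hmax : ∀ B : Subgroup G, Cfsg.IsElementaryAbelian p B → A ≤ B → B = A)
    (q : ℕ) (hq : q.Prime) (hqp : q ≠ p)
    (hqC : q ∣ Nat.card (Subgroup.centralizer (A : Set G)))
    (Q : Subgroup G) (hQ : Q ∈ Cfsg.maxInvSubgroups ⊤ A {q})
    (hn : Cfsg.IsNarrow q ↥Q) : A ≤ Subgroup.centralizer (Q : Set G) := by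
  haveI : Fact q.Prime := ⟨hq⟩
  obtain ⟨P, hAP, hPN, hPder⟩ := ten_nine hG h36_all p A hAe hAc hmax q hq hqp hqC Q hQ
  have hQp : IsPGroup q Q := isPGroup_of_piGroup_singleton q Q hQ.1.2.1
  have hq2 : q ≠ 2 := by
    rintro rfl
    have h1 : 2 ∣ Nat.card G := hqC.trans (Subgroup.card_subgroup_dvd_card _)
    have h2 := hG.1
    rw [Nat.odd_iff] at h2
    omega
  by_cases hQ1 : Q = ⊥
  · rw [hQ1]
    intro a _
    rw [Subgroup.mem_centralizer_iff]
    intro h hh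
    rw [Subgroup.coe_bot, Set.mem_singleton_iff] at hh
    rw [hh, one_mul, mul_one]
  have hQtop : Q ≠ ⊤ := Helper11.MaxSubD.pgroup_ne_top hG q Q hQp
  have hNtop : Subgroup.normalizer (Q : Set G) ≠ ⊤ := normalizer_ne_top hG hQ1 hQtop
  haveI hNs : Group.IsSolvable ↥(Subgroup.normalizer (Q : Set G)) := hG.2.2.2 _ hNtop
  have hNodd : Odd (Nat.card ↥(Subgroup.normalizer (Q : Set G))) :=
    Helper11.MaxSubB.coatom_odd hG _
  intro a ha
  have haN : a ∈ Subgroup.normalizer (Q : Set G) := hPN (hAP ha)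
  have hader : a ∈ ⁅Subgroup.normalizer (Q : Set G), Subgroup.normalizer (Q : Set G)⁆ :=
    hPder (hAP ha)
  have hader' : (⟨a, haN⟩ : ↥(Subgroup.normalizer (Q : Set G))) ∈
      commutator ↥(Subgroup.normalizer (Q : Set G)) := by
    rw [← Subgroup.map_subtype_commutator] at hader
    obtain ⟨x, hx, hxa⟩ := hader
    have : x = ⟨a, haN⟩ := Subtype.ext hxa
    rwa [← this]
  have hap : (⟨a, haN⟩ : ↥(Subgroup.normalizer (Q : Set G))) ^ p = 1 := by
    apply Subtype.ext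
    simpa using hAe.2 a ha
  have hqp' : ¬ q ∣ p := by
    intro h
    exact hqp ((Nat.prime_dvd_prime_iff_eq hq hp.out).mp h)
  have h1 := Helper21.Narrow.narrow_der_trivial q hq2 hQp hn hNodd
    (Subgroup.normalizerMonoidHom Q) ⟨a, haN⟩ hader' p hap hqp'
  have h2 : (⟨a, haN⟩ : ↥(Subgroup.normalizer (Q : Set G))) ∈
      (Subgroup.normalizerMonoidHom Q).ker := MonoidHom.mem_ker.mpr h1
  rw [Subgroup.normalizerMonoidHom_ker, Subgroup.mem_subgroupOf] at h2
  exact h2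

end Cfsg.Agent.Lib.Helper1.BG11
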