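import Mathlib
import Cfsg.Agent.Lib.Helper1.BG12.TwelveFourMain
import Cfsg.Agent.Lib.Helper1.BG11.TenNineC
import Cfsg.Agent.Lib.Helper1.BG11.HHNilB
import Cfsg.Agent.S1450
import Cfsg.Agent.S1461
import Cfsg.Agent.Lib.Helper1.CoprimeAbelian
import Cfsg.Agent.Lib.Helper10.SubgroupBasic

set_option autoImplicit false

namespace Cfsg.Agent.Lib.Helper1.BG11

open Cfsg.Agent.Lib Cfsg.Agent.Lib.Helper1.BG10 Cfsg.Agent.Lib.Helper1.BG12
open Cfsg.Agent.Lib.Helper18 Cfsg.Agent.Lib.Helper11.BenderM Cfsg.Agent.Lib.Helper11.BenderN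
  Cfsg.Agent.Lib.Helper11.BenderO Cfsg.Agent.Lib.Helper11.MaxSubB
open scoped commutatorElement

universe u

section general

variable {Γ : Type*} [Group Γ]

theorem nilpotent_of_map_le {Γ' : Type*} [Group Γ'] (π : Γ →* Γ') (H : Subgroup Γ)
    (T : Subgroup Γ') (hT : Group.IsNilpotent T) (hHT : H.map π ≤ T)
    (hker : ∀ x ∈ H, π x = 1 → ∀ y ∈ H, x * y = y * x) : Group.IsNilpotent H := by
  let f : H →* T := (π.comp H.subtype).codRestrict T
    (fun x => hHT (Subgroup.mem_map_of_mem π x.2))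
  apply Subgroup.isNilpotent_of_ker_le_center f
  intro x hx
  rw [Subgroup.mem_center_iff]
  intro y
  have h1 : π (x : Γ) = 1 := by
    have := MonoidHom.mem_ker.mp hx
    have h2 := congrArg Subtype.val this
    simpa [f] using h2
  apply Subtype.ext
  have := hker x.1 x.2 h1 y.1 y.2
  simpa using this.symm

theorem commutator_sup_le_of_normalizes (Q X₁ X₂ C : Subgroup Γ)
    (hX₁C : X₁ ≤ Subgroup.normalizer (C : Set Γ)) (hX₂C : X₂ ≤ Subgroup.normalizer (C : Set Γ))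
    (h₁ : ⁅Q, X₁⁆ ≤ C) (h₂ : ⁅Q, X₂⁆ ≤ C) : ⁅Q, X₁ ⊔ X₂⁆ ≤ C := by
  let T : Subgroup Γ :=
    { carrier := {a | a ∈ Subgroup.normalizer (C : Set Γ) ∧ ∀ x ∈ Q, x * a * x⁻¹ * a⁻¹ ∈ C}
      one_mem' := by
        refine ⟨Subgroup.one_mem _, fun x _ => ?_⟩
        simp
      mul_mem' := by
        rintro a b ⟨haN, ha⟩ ⟨hbN, hb⟩
        refine ⟨Subgroup.mul_mem _ haN hbN, fun x hx => ?_⟩
        have h1 : x * (a * b) * x⁻¹ * (a * b)⁻¹ =
            (x * a * x⁻¹ * a⁻¹) * (a * (x * b * x⁻¹ * b⁻¹) * a⁻¹) := by group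
        rw [h1]
        exact C.mul_mem (ha x hx) ((Subgroup.mem_normalizer_iff.mp haN _).mp (hb x hx))
      inv_mem' := by
        rintro a ⟨haN, ha⟩
        refine ⟨Subgroup.inv_mem _ haN, fun x hx => ?_⟩
        have h1 : x * a⁻¹ * x⁻¹ * a⁻¹⁻¹ = a⁻¹ * (x * a * x⁻¹ * a⁻¹)⁻¹ * a⁻¹⁻¹ := by group
        rw [h1]
        exact (Subgroup.mem_normalizer_iff.mp (Subgroup.inv_mem _ haN) _).mp
          (C.inv_mem (ha x hx)) }
  have hT₁ : X₁ ≤ T := by
    intro a ha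
    refine ⟨hX₁C ha, fun x hx => ?_⟩
    have := h₁ (Subgroup.commutator_mem_commutator hx ha)
    rwa [commutatorElement_def] at this
  have hT₂ : X₂ ≤ T := by
    intro a ha
    refine ⟨hX₂C ha, fun x hx => ?_⟩
    have := h₂ (Subgroup.commutator_mem_commutator hx ha)
    rwa [commutatorElement_def] at this
  rw [Subgroup.commutator_le]
  intro x hx a ha
  have h3 : a ∈ T := (sup_le hT₁ hT₂) ha
  rw [commutatorElement_def]
  exact h3.2 x hx

theorem inf_ne_bot_of_cyclic_pgroup [Finite Γ] [IsCyclic Γ] (q : ℕ) [hq : Fact q.Prime]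
    (hC : IsPGroup q Γ) (U W : Subgroup Γ) (hU : U ≠ ⊥) (hW : W ≠ ⊥) : U ⊓ W ≠ ⊥ := by
  have key : ∀ V : Subgroup Γ, V ≠ ⊥ → ∃ V₁ : Subgroup Γ, V₁ ≤ V ∧ Nat.card V₁ = q := by
    intro V hV
    obtain ⟨k, hk⟩ := IsPGroup.iff_card.mp (hC.to_subgroup V)
    have hk0 : k ≠ 0 := by
      rintro rfl
      rw [pow_zero] at hk
      exact hV (Subgroup.card_eq_one.mp hk)
    have hdvd : q ^ 1 ∣ Nat.card V := by
      rw [hk, pow_one]
      exact dvd_pow_self q hk0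
    obtain ⟨K, hK⟩ := Sylow.exists_subgroup_card_pow_prime q hdvd
    refine ⟨K.map V.subtype, Subgroup.map_subtype_le K, ?_⟩
    rw [Subgroup.card_map_of_injective V.subtype_injective, hK, pow_one]
  obtain ⟨U₁, hU₁, hcU⟩ := key U hU
  obtain ⟨W₁, hW₁, hcW⟩ := key W hW
  have heq := Helper10.eq_of_card_eq_of_isCyclic U₁ W₁ (hcU.trans hcW.symm)
  intro h
  have h1 : U₁ ≤ U ⊓ W := le_inf hU₁ (heq ▸ hW₁)
  rw [h, le_bot_iff] at h1
  rw [h1, Subgroup.card_bot] at hcU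
  exact hq.out.one_lt.ne' hcU.symm

theorem le_centralizer_of_cyclic [Finite Γ] (q : ℕ) [hq : Fact q.Prime] (Q A : Subgroup Γ)
    (hQ : IsPGroup q Q) (hcyc : IsCyclic Q)
    (hAQ : A ≤ Subgroup.normalizer (Q : Set Γ)) (hcop : (Nat.card A).Coprime (Nat.card Q))
    (hne : Q ⊓ Subgroup.centralizer (A : Set Γ) ≠ ⊥) : Q ≤ Subgroup.centralizer (A : Set Γ) := by
  haveI : IsMulCommutative Q := ⟨⟨fun a b => by
    obtain ⟨g, hg⟩ := hcyc.exists_generator
    obtain ⟨m, rfl⟩ := Subgroup.mem_zpowers_iff.mp (hg a)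
    obtain ⟨n, rfl⟩ := Subgroup.mem_zpowers_iff.mp (hg b)
    exact (Commute.zpow_zpow_self g m n).eq⟩⟩
  obtain ⟨h1, h2⟩ := Helper1.coprime_abelian_decomposition A Q hAQ hcop
  rw [← Subgroup.commutator_eq_bot_iff_le_centralizer]
  by_contra hW
  have hWQ : ⁅Q, A⁆ ≤ Q := le_sup_right.trans h2.le
  have hU' : (Q ⊓ Subgroup.centralizer (A : Set Γ)).subgroupOf Q ≠ ⊥ := by
    intro h
    apply hne
    rw [← Subgroup.map_subgroupOf_eq_of_le (inf_le_left : Q ⊓ Subgroup.centralizer (A : Set Γ) ≤ Q),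
      h, Subgroup.map_bot]
  have hW' : (⁅Q, A⁆).subgroupOf Q ≠ ⊥ := by
    intro h
    apply hW
    rw [← Subgroup.map_subgroupOf_eq_of_le hWQ, h, Subgroup.map_bot]
  apply inf_ne_bot_of_cyclic_pgroup q hQ _ _ hU' hW'
  rw [inf_subgroupOf_eq, h1, Subgroup.bot_subgroupOf]

end general

end Cfsg.Agent.Lib.Helper1.BG11
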