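import Mathlib
import Cfsg.Agent.Lib.Helper1.BG11.ElevenSevenPre

set_option autoImplicit false

namespace Cfsg.Agent.Lib.Helper1.BG11

open Cfsg.Agent.Lib Cfsg.Agent.Lib.Helper1.BG10 Cfsg.Agent.Lib.Helper1.BG12
open Cfsg.Agent.Lib.Helper18 Cfsg.Agent.Lib.Helper11.BenderM Cfsg.Agent.Lib.Helper11.BenderN
  Cfsg.Agent.Lib.Helper11.BenderO Cfsg.Agent.Lib.Helper11.MaxSubB
open scoped commutatorElement

universe u

variable {G : Type u} [Group G] [Finite G]

def opPrimeOf (M : Subgroup G) (q : ℕ) : Subgroup G := (Cfsg.pPrimeCore q ↥M).map M.subtype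

theorem opPrimeOf_le (M : Subgroup G) (q : ℕ) : opPrimeOf M q ≤ M := Subgroup.map_subtype_le _

theorem le_normalizer_opPrimeOf (M : Subgroup G) (q : ℕ) :
    M ≤ Subgroup.normalizer ((opPrimeOf M q : Subgroup G) : Set G) :=
  map_normal_le_normalizer M _

theorem opPrimeOf_coprime (M : Subgroup G) (q : ℕ) : (Nat.card (opPrimeOf M q)).Coprime q := by
  unfold opPrimeOf
  rw [Subgroup.card_map_of_injective M.subtype_injective]
  exact Helper1.pPrimeCore_card_coprime q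

theorem relIndex_map_subtype (M : Subgroup G) (N : Subgroup M) :
    (N.map M.subtype).relIndex M = N.index := by
  unfold Subgroup.relIndex
  congr 1
  ext x
  simp [Subgroup.mem_subgroupOf]

theorem le_opPrimeOf (M N : Subgroup G) (q : ℕ) (hNM : N ≤ M)
    (hMN : M ≤ Subgroup.normalizer (N : Set G)) (hcop : (Nat.card N).Coprime q) :
    N ≤ opPrimeOf M q := by
  have hn : (N.subgroupOf M).Normal := Subgroup.normal_subgroupOf_of_le_normalizer hMN
  have h1 : N.subgroupOf M ≤ Cfsg.pPrimeCore q ↥M := by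
    apply Helper1.le_pPrimeCore hn
    rw [Helper5.card_subgroupOf_of_le hNM]
    exact hcop
  intro x hx
  exact ⟨⟨x, hNM hx⟩, h1 (Subgroup.mem_subgroupOf.mpr hx), rfl⟩

theorem pRankLE_of_not_sigma (hG : Cfsg.IsMinSimpleOddOrder G) (M : Subgroup G) (hM : IsCoatom M)
    (q : ℕ) [hq : Fact q.Prime] (hqσ : q ∉ Cfsg.sigma M) : Cfsg.PRankLE q 2 ↥M := by
  by_contra h
  exact hqσ (alpha_sub_sigma hG M hM q ⟨hq.out, h⟩)

theorem index_primes_le (hG : Cfsg.IsMinSimpleOddOrder G) (M : Subgroup G) (hM : IsCoatom M)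
    (q : ℕ) [hq : Fact q.Prime] (hqσ : q ∉ Cfsg.sigma M) (hqM : q ∣ Nat.card M) :
    (∀ r : ℕ, r.Prime → r ∣ (opPrimeOf M q).relIndex M → r ≤ q) ∧
      ((Cfsg.pPrimePCore q ↥M).index).Coprime q := by
  haveI hMs : Group.IsSolvable ↥M := coatom_solvable hG M hM
  have hModd : Odd (Nat.card ↥M) := coatom_odd hG M
  have h := Cfsg.Agent.S1450.result hModd q hqM (pRankLE_of_not_sigma hG M hM q hqσ)
  refine ⟨?_, h.2.2.2.2.2⟩
  intro r hr hd
  unfold opPrimeOf at hd
  rw [relIndex_map_subtype] at hd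
  exact h.1 r hr hd

theorem commutator_le_of_normalizes {Q A : Subgroup G}
    (hAQ : A ≤ Subgroup.normalizer (Q : Set G)) : ⁅Q, A⁆ ≤ Q := by
  rw [Subgroup.commutator_le]
  intro x hx a ha
  rw [commutatorElement_def]
  have h1 := (Subgroup.mem_normalizer_iff.mp (hAQ ha) x⁻¹).mp (Q.inv_mem hx)
  have h2 : x * a * x⁻¹ * a⁻¹ = x * (a * x⁻¹ * a⁻¹) := by group
  rw [h2]
  exact Q.mul_mem hx h1

theorem commutator_le_of_normal_in {M O Q A : Subgroup G} (hQM : Q ≤ M) (hAO : A ≤ O)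
    (hMO : M ≤ Subgroup.normalizer (O : Set G)) : ⁅Q, A⁆ ≤ O := by
  rw [Subgroup.commutator_le]
  intro x hx a ha
  rw [commutatorElement_def]
  have h1 := (Subgroup.mem_normalizer_iff.mp (hMO (hQM hx)) a).mp (hAO ha)
  exact O.mul_mem h1 (O.inv_mem (hAO ha))

theorem claimA (hG : Cfsg.IsMinSimpleOddOrder G) (M : Subgroup G) (hM : IsCoatom M)
    (p q : ℕ) [hp : Fact p.Prime] [hq : Fact q.Prime] (hqp : q < p) (hqσ : q ∉ Cfsg.sigma M)
    (A : Subgroup G) (hAM : A ≤ M) (hAp : IsPGroup p A) (Q : Subgroup G) (hQM : Q ≤ M)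
    (hQ : IsPGroup q Q) (hAQ : A ≤ Subgroup.normalizer (Q : Set G)) :
    Q ≤ Subgroup.centralizer (A : Set G) := by
  by_cases hQ1 : Q = ⊥
  · rw [hQ1]
    exact bot_le
  have hqM : q ∣ Nat.card M := by
    obtain ⟨k, hk⟩ := IsPGroup.iff_card.mp hQ
    have hk0 : k ≠ 0 := by
      rintro rfl
      rw [pow_zero] at hk
      exact hQ1 (Subgroup.card_eq_one.mp hk)
    have h1 : q ∣ Nat.card Q := by
      rw [hk]
      exact dvd_pow_self q hk0
    exact h1.trans (Subgroup.card_dvd_of_le hQM)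
  obtain ⟨hidx, -⟩ := index_primes_le hG M hM q hqσ hqM
  have hpn : ¬ p ∣ (opPrimeOf M q).relIndex M := by
    intro hd
    have := hidx p hp.out hd
    omega
  have hAO : A ≤ opPrimeOf M q := by
    apply le_of_normal_coprime M _ A (opPrimeOf_le M q) (le_normalizer_opPrimeOf M q) hAM
    obtain ⟨k, hk⟩ := IsPGroup.iff_card.mp hAp
    rw [hk]
    apply Nat.Coprime.pow_left
    exact (Nat.Prime.coprime_iff_not_dvd hp.out).mpr hpn
  rw [← Subgroup.commutator_eq_bot_iff_le_centralizer, eq_bot_iff]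
  have h1 : ⁅Q, A⁆ ≤ Q ⊓ opPrimeOf M q :=
    le_inf (commutator_le_of_normalizes hAQ)
      (commutator_le_of_normal_in hQM hAO (le_normalizer_opPrimeOf M q))
  have h2 : Q ⊓ opPrimeOf M q = ⊥ := by
    apply Subgroup.inf_eq_bot_of_coprime
    obtain ⟨k, hk⟩ := IsPGroup.iff_card.mp hQ
    rw [hk]
    apply Nat.Coprime.pow_left
    exact (opPrimeOf_coprime M q).symm
  rwa [h2] at h1

theorem derived_inf_centralizer_nilpotent (hG : Cfsg.IsMinSimpleOddOrder G) (M : Subgroup G)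
    (hM : IsCoatom M) :
    Group.IsNilpotent ↥(⁅M, M⁆ ⊓ Subgroup.centralizer ((Cfsg.sigmaCore M : Subgroup G) : Set G)) := by
  obtain ⟨D, hD⟩ : ∃ D : Subgroup G,
    D = ⁅M, M⁆ ⊓ Subgroup.centralizer ((Cfsg.sigmaCore M : Subgroup G) : Set G) := ⟨_, rfl⟩
  rw [← hD]
  have hDder : D ≤ ⁅M, M⁆ := hD ▸ inf_le_left
  have hDM : D ≤ M := hDder.trans (Subgroup.commutator_le_self M)
  have hDcen : D ≤ Subgroup.centralizer ((Cfsg.sigmaCore M : Subgroup G) : Set G) :=
    hD ▸ inf_le_right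
  have hnil := (alpha_hall hG M hM).2.2.2.2
  have hασ := (alpha_hall hG M hM).2.2.1
  have key : Group.IsNilpotent ↥(D.subgroupOf M) := by
    apply nilpotent_of_map_le (QuotientGroup.mk' (Cfsg.piCore (Cfsg.alpha M) ↥M)) (D.subgroupOf M)
      _ hnil
    · apply Subgroup.map_mono
      intro x hx
      rw [Subgroup.mem_subgroupOf] at hx
      have h1 := hDder hx
      rw [← Subgroup.map_subtype_commutator] at h1
      obtain ⟨y, hy, hyx⟩ := h1
      have : y = x := Subtype.ext hyx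
      rwa [← this]
    · intro x hx hπ y hy
      rw [Subgroup.mem_subgroupOf] at hx hy
      have hxα : x ∈ Cfsg.piCore (Cfsg.alpha M) ↥M := (QuotientGroup.eq_one_iff x).mp hπ
      have hxσ : (x : G) ∈ Cfsg.sigmaCore M := by
        apply hασ
        unfold Cfsg.alphaCore
        exact ⟨x, hxα, rfl⟩
      have h2 := (Subgroup.mem_centralizer_iff.mp (hDcen hy)) (x : G) hxσ
      apply Subtype.ext
      simpa using h2
  exact (Group.isNilpotent_congr (Subgroup.subgroupOfEquivOfLe hDM)).mp key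

end Cfsg.Agent.Lib.Helper1.BG11
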