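import Mathlib
import Cfsg.Agent.Lib.Helper1.BG11.ElevenSevenA
import Cfsg.Agent.Lib.Helper1.Ward.StabMod
import Cfsg.Agent.Lib.Helper11.BenderR

set_option autoImplicit false

namespace Cfsg.Agent.Lib.Helper1.BG11

open Cfsg.Agent.Lib Cfsg.Agent.Lib.Helper1.BG10 Cfsg.Agent.Lib.Helper1.BG12
open Cfsg.Agent.Lib.Helper18 Cfsg.Agent.Lib.Helper11.BenderM Cfsg.Agent.Lib.Helper11.BenderN
  Cfsg.Agent.Lib.Helper11.BenderO Cfsg.Agent.Lib.Helper11.MaxSubB
open scoped commutatorElement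

universe u

variable {G : Type u} [Group G] [Finite G]

theorem prime_eq_of_dvd_pgroup {q r : ℕ} [hq : Fact q.Prime] (hr : r.Prime) {Q : Subgroup G}
    (hQ : IsPGroup q Q) (hd : r ∣ Nat.card Q) : r = q := by
  obtain ⟨k, hk⟩ := IsPGroup.iff_card.mp hQ
  rw [hk] at hd
  exact (Nat.prime_dvd_prime_iff_eq hr hq.out).mp (hr.dvd_of_dvd_pow hd)

theorem dvd_card_of_pgroup_ne_bot {q : ℕ} [hq : Fact q.Prime] {Q : Subgroup G}
    (hQ : IsPGroup q Q) (hQ1 : Q ≠ ⊥) : q ∣ Nat.card Q := by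
  obtain ⟨k, hk⟩ := IsPGroup.iff_card.mp hQ
  have hk0 : k ≠ 0 := by
    rintro rfl
    rw [pow_zero] at hk
    exact hQ1 (Subgroup.card_eq_one.mp hk)
  rw [hk]
  exact dvd_pow_self q hk0

theorem coprime_of_pgroups {p q : ℕ} [hp : Fact p.Prime] [hq : Fact q.Prime] (hqp : q ≠ p)
    {A Q : Subgroup G} (hA : IsPGroup p A) (hQ : IsPGroup q Q) :
    (Nat.card A).Coprime (Nat.card Q) := by
  obtain ⟨k, hk⟩ := IsPGroup.iff_card.mp hA
  obtain ⟨l, hl⟩ := IsPGroup.iff_card.mp hQ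
  rw [hk, hl]
  apply Nat.Coprime.pow
  exact (Nat.coprime_primes hp.out hq.out).mpr (Ne.symm hqp)

theorem claimB_case1 (hG : Cfsg.IsMinSimpleOddOrder G) (M : Subgroup G) (hM : IsCoatom M)
    (p : ℕ) [hp : Fact p.Prime] (hpσ : p ∉ Cfsg.sigma M)
    (A : Subgroup G) (hAM : A ≤ M) (hAe : Cfsg.IsElementaryAbelian p A)
    (hAc : Nat.card A = p ^ 2)
    (q : ℕ) [hq : Fact q.Prime] (hqp : q ≠ p) (hqσ : q ∉ Cfsg.sigma M)
    (Q : Subgroup G) (hQM : Q ≤ M) (hQp : IsPGroup q Q)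
    (hAQ : A ≤ Subgroup.normalizer (Q : Set G))
    (hne : Q ⊓ Subgroup.centralizer (A : Set G) ≠ ⊥) :
    Q ≤ Subgroup.centralizer (A : Set G) := by
  have hAp : IsPGroup p A := elemAb_isPGroup hAe
  have hcop : (Nat.card A).Coprime (Nat.card Q) := coprime_of_pgroups hqp hAp hQp
  have hQ1 : Q ≠ ⊥ := by
    rintro rfl
    apply hne
    rw [bot_inf_eq]
  have hqM : q ∣ Nat.card M :=
    (dvd_card_of_pgroup_ne_bot hQp hQ1).trans (Subgroup.card_dvd_of_le hQM)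
  have hq2 : q ≠ 2 := prime_ne_two hG q M hqM
  by_cases hcyc : IsCyclic Q
  · exact le_centralizer_of_cyclic q Q A hQp hcyc hAQ hcop hne
  obtain ⟨B, hBQ, -, hBe, hBc⟩ := Helper11.BenderF.exists_normal_sq q hq2 Q hQp hcyc
  have hBmax := elemAb_sq_maximal hG M hM q hqσ B (hBQ.trans hQM) hBe hBc
  have hQinv : Q ∈ Cfsg.invSubgroups ⊤ A {q} := by
    refine ⟨le_top, fun r hr hd => ?_, hAQ⟩
    exact prime_eq_of_dvd_pgroup hr hQp hd
  obtain ⟨Qs, hQs, hQQs⟩ := exists_maxInv_ge A q Q hQinv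
  have hQsp : IsPGroup q Qs := isPGroup_of_piGroup_singleton q Qs hQs.1.2.1
  have hnar : Cfsg.IsNarrow q ↥Qs :=
    Helper11.BenderR.narrow_of_max_sq_sub q hq2 Qs hQsp B (hBQ.trans hQQs) hBe hBc
      (fun B' _ hB'e hBB' => hBmax B' hB'e hBB')
  have hmaxA := elemAb_sq_maximal hG M hM p hpσ A hAM hAe hAc
  have hqC : q ∣ Nat.card (Subgroup.centralizer (A : Set G)) :=
    (dvd_card_of_pgroup_ne_bot (hQp.to_le inf_le_left) hne).trans
      (Subgroup.card_dvd_of_le inf_le_right)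
  have h := ten_nine_c hG p A hAe hAc hmaxA q hq.out hqp hqC Qs hQs hnar
  exact hQQs.trans (Subgroup.le_centralizer_iff.mp h)

theorem card_sup_of_normalizes (X Q : Subgroup G) (h : X ≤ Subgroup.normalizer (Q : Set G)) :
    Nat.card (Q ⊔ X : Subgroup G) = Nat.card Q * Q.relIndex X := by
  rw [← Helper1.card_mul_relIndex_of_le (le_sup_left : Q ≤ Q ⊔ X), sup_comm,
    relIndex_sup_of_normalizes X Q h]

theorem fpf_commutator_centralizes (hG : Cfsg.IsMinSimpleOddOrder G) (M : Subgroup G)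
    (hM : IsCoatom M) (p : ℕ) [hp : Fact p.Prime] (hpσ : p ∉ Cfsg.sigma M)
    (hnil : Group.IsNilpotent (Cfsg.sigmaCore M))
    (X : Subgroup G) (hXM : X ≤ M) (hXc : Nat.card X = p)
    (hf : Cfsg.sigmaCore M ⊓ Subgroup.centralizer (X : Set G) = ⊥)
    (q : ℕ) [hq : Fact q.Prime] (hqp : q ≠ p) (hqσ : q ∉ Cfsg.sigma M)
    (Q : Subgroup G) (hQM : Q ≤ M) (hQp : IsPGroup q Q)
    (hXQ : X ≤ Subgroup.normalizer (Q : Set G)) :
    ⁅Q, X⁆ ≤ Subgroup.centralizer ((Cfsg.sigmaCore M : Subgroup G) : Set G) := by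
  have hXp : IsPGroup p X := IsPGroup.of_card (n := 1) (by rw [hXc, pow_one])
  have hΓM : Q ⊔ X ≤ M := sup_le hQM hXM
  have hΓtop : Q ⊔ X ≠ ⊤ := fun h => hM.1 (top_le_iff.mp (h ▸ hΓM))
  have hcard := card_sup_of_normalizes X Q hXQ
  have hrel : Q.relIndex X ∣ p := hXc ▸ Subgroup.relIndex_dvd_card Q X
  have hcopQX : (Nat.card Q).Coprime (Nat.card X) := (coprime_of_pgroups hqp hXp hQp).symm
  rw [Subgroup.commutator_comm]
  apply hh_nilpotent (Q ⊔ X) Q X (Cfsg.sigmaCore M) (hG.2.2.2 _ hΓtop) (coatom_odd hG _) hnil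
    (hΓM.trans (le_normalizer_sigmaCore M))
  · apply Nat.Coprime.symm
    have hdvd : Nat.card (Q ⊔ X : Subgroup G) ∣ Nat.card Q * p := by
      rw [hcard]
      exact Nat.mul_dvd_mul_left _ hrel
    apply Nat.Coprime.coprime_dvd_right hdvd
    · apply Nat.coprime_of_dvd
      intro r hr hd1 hd2
      have hrσ := sigmaCore_primes hG M hM r hr hd1
      rcases (Nat.Prime.dvd_mul hr).mp hd2 with h | h
      · rw [prime_eq_of_dvd_pgroup hr hQp h] at hrσ
        exact hqσ hrσ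
      · rw [(Nat.prime_dvd_prime_iff_eq hr hp.out).mp h] at hrσ
        exact hpσ hrσ
  · exact le_sup_left
  · exact sup_le Subgroup.le_normalizer hXQ
  · have h1 : Q.relIndex (Q ⊔ X) = Q.relIndex X := by
      rw [sup_comm]
      exact relIndex_sup_of_normalizes X Q hXQ
    rw [h1]
    exact Nat.Coprime.coprime_dvd_right (hXc ▸ Subgroup.relIndex_dvd_card Q X) hcopQX
  · exact le_sup_right
  · rw [hXc]
    exact hp.out
  · exact (Subgroup.disjoint_of_coprime_natCard hcopQX).eq_bot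
  · rfl
  · exact hf

end Cfsg.Agent.Lib.Helper1.BG11
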