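import Mathlib
import Cfsg.Agent.Lib.Helper1.BG11.ElevenSevenB
import Cfsg.Agent.S0026

set_option autoImplicit false

namespace Cfsg.Agent.Lib.Helper1.BG11

open Cfsg.Agent.Lib Cfsg.Agent.Lib.Helper1.BG10 Cfsg.Agent.Lib.Helper1.BG12
open Cfsg.Agent.Lib.Helper18 Cfsg.Agent.Lib.Helper11.BenderM Cfsg.Agent.Lib.Helper11.BenderN
  Cfsg.Agent.Lib.Helper11.BenderO Cfsg.Agent.Lib.Helper11.MaxSubB
open scoped commutatorElement

universe u

variable {G : Type u} [Group G] [Finite G]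

theorem sup_eq_of_two_lines (p : ℕ) [hp : Fact p.Prime] (A X₁ X₂ : Subgroup G)
    (hAc : Nat.card A = p ^ 2) (hX₁A : X₁ ≤ A) (hX₂A : X₂ ≤ A)
    (hX₁c : Nat.card X₁ = p) (hX₂c : Nat.card X₂ = p) (hne : X₁ ≠ X₂) : X₁ ⊔ X₂ = A := by
  have hle : X₁ ⊔ X₂ ≤ A := sup_le hX₁A hX₂A
  have hd : Nat.card (X₁ ⊔ X₂ : Subgroup G) ∣ p ^ 2 := hAc ▸ Subgroup.card_dvd_of_le hle
  obtain ⟨m, hm, hcard⟩ := (Nat.dvd_prime_pow hp.out).mp hd
  have h1 : X₁ ≤ X₁ ⊔ X₂ := le_sup_left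
  have hm1 : m ≠ 0 := by
    rintro rfl
    rw [pow_zero] at hcard
    have := Subgroup.card_eq_one.mp hcard
    rw [this, le_bot_iff] at h1
    rw [h1, Subgroup.card_bot] at hX₁c
    exact hp.out.one_lt.ne' hX₁c.symm
  have hm2 : m ≠ 1 := by
    rintro rfl
    rw [pow_one] at hcard
    have h2 : X₁ = X₁ ⊔ X₂ := Subgroup.eq_of_le_of_card_ge h1 (by rw [hcard, hX₁c])
    have h3 : X₂ ≤ X₁ := by
      rw [h2]
      exact le_sup_right
    exact hne (Subgroup.eq_of_le_of_card_ge h3 (by rw [hX₁c, hX₂c])).symm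
  have hm3 : m = 2 := by omega
  rw [hm3] at hcard
  exact Subgroup.eq_of_le_of_card_ge hle (by rw [hcard, hAc])

theorem le_normalizer_derived (M : Subgroup G) :
    M ≤ Subgroup.normalizer ((⁅M, M⁆ : Subgroup G) : Set G) := by
  rw [← Subgroup.map_subtype_commutator]
  exact map_normal_le_normalizer M _

theorem claimB (hG : Cfsg.IsMinSimpleOddOrder G) (M : Subgroup G) (hM : IsCoatom M)
    (p : ℕ) [hp : Fact p.Prime] (hpσ : p ∉ Cfsg.sigma M)
    (A : Subgroup G) (hAM : A ≤ M) (hAe : Cfsg.IsElementaryAbelian p A)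
    (hAc : Nat.card A = p ^ 2)
    (hnil : Group.IsNilpotent (Cfsg.sigmaCore M))
    (X₁ X₂ : Subgroup G) (hX₁A : X₁ ≤ A) (hX₂A : X₂ ≤ A)
    (hX₁c : Nat.card X₁ = p) (hX₂c : Nat.card X₂ = p) (hne : X₁ ≠ X₂)
    (hf₁ : Cfsg.sigmaCore M ⊓ Subgroup.centralizer (X₁ : Set G) = ⊥)
    (hf₂ : Cfsg.sigmaCore M ⊓ Subgroup.centralizer (X₂ : Set G) = ⊥)
    (q : ℕ) [hq : Fact q.Prime] (hqp : q ≠ p) (hqσ : q ∉ Cfsg.sigma M)
    (Q : Subgroup G) (hQ : IsSylowIn q Q M)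
    (hAQ : A ≤ Subgroup.normalizer (Q : Set G)) :
    Q ≤ Subgroup.centralizer (A : Set G) := by
  have hQM : Q ≤ M := hQ.le
  have hQp : IsPGroup q Q := hQ.isPGroup
  have hAp : IsPGroup p A := elemAb_isPGroup hAe
  have hcop : (Nat.card A).Coprime (Nat.card Q) := coprime_of_pgroups hqp hAp hQp
  by_cases h0 : Q ⊓ Subgroup.centralizer (A : Set G) = ⊥
  · by_cases hQ1 : Q = ⊥
    · rw [hQ1]
      exact bot_le
    exfalso
    have hQsolv : Group.IsSolvable Q := by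
      have := hQp.isNilpotent
      infer_instance
    have hQA : ⁅Q, A⁆ = Q := by
      have h1 := Cfsg.Agent.S0026.result A Q hAQ hcop (Or.inr hQsolv)
      rwa [h0, sup_bot_eq] at h1
    have hA12 := sup_eq_of_two_lines p A X₁ X₂ hAc hX₁A hX₂A hX₁c hX₂c hne
    have hMC : M ≤ Subgroup.normalizer
        ((Subgroup.centralizer ((Cfsg.sigmaCore M : Subgroup G) : Set G) : Subgroup G) : Set G) :=
      Helper1.Ward.normalizer_centralizer (le_normalizer_sigmaCore M)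
    have hc₁ := fpf_commutator_centralizes hG M hM p hpσ hnil X₁ (hX₁A.trans hAM) hX₁c hf₁ q hqp
      hqσ Q hQM hQp (hX₁A.trans hAQ)
    have hc₂ := fpf_commutator_centralizes hG M hM p hpσ hnil X₂ (hX₂A.trans hAM) hX₂c hf₂ q hqp
      hqσ Q hQM hQp (hX₂A.trans hAQ)
    have h12 := commutator_sup_le_of_normalizes Q X₁ X₂ _ ((hX₁A.trans hAM).trans hMC)
      ((hX₂A.trans hAM).trans hMC) hc₁ hc₂
    rw [hA12] at h12
    have hQC : Q ≤ Subgroup.centralizer ((Cfsg.sigmaCore M : Subgroup G) : Set G) :=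
      hQA.symm.le.trans h12
    have hQder : Q ≤ ⁅M, M⁆ := hQA.symm.le.trans (Subgroup.commutator_mono hQM hAM)
    have hDnil := derived_inf_centralizer_nilpotent hG M hM
    have hDM : ⁅M, M⁆ ⊓ Subgroup.centralizer ((Cfsg.sigmaCore M : Subgroup G) : Set G) ≤ M :=
      inf_le_left.trans (Subgroup.commutator_le_self M)
    have hMD := le_normalizer_inf_of_le (le_normalizer_derived M) hMC
    have hQsylD := hQ.of_le (le_inf hQder hQC) hDM
    have hMQ := sylow_normal_of_nilpotent _ Q q hDnil hQsylD M hMD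
    have hQtop := Helper11.MaxSubD.pgroup_ne_top hG q Q hQp
    have hNQ := normalizer_eq_of_coatom hG M hM Q hQ1 hQtop hMQ
    have hgood := good_of_sigma M q Q hQ hNQ.le
    exact hqσ (sigma_of_good M q Q hgood hQ1)
  · exact claimB_case1 hG M hM p hpσ A hAM hAe hAc q hqp hqσ Q hQM hQp hAQ h0

end Cfsg.Agent.Lib.Helper1.BG11
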