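import Mathlib
import Cfsg.Agent.Lib.Helper1.BG11.ElevenSevenC
import Cfsg.Agent.Lib.Helper11.BenderP

set_option autoImplicit false

namespace Cfsg.Agent.Lib.Helper1.BG11

open Cfsg.Agent.Lib Cfsg.Agent.Lib.Helper1.BG10 Cfsg.Agent.Lib.Helper1.BG12
open Cfsg.Agent.Lib.Helper18 Cfsg.Agent.Lib.Helper11.BenderM Cfsg.Agent.Lib.Helper11.BenderN
  Cfsg.Agent.Lib.Helper11.BenderO Cfsg.Agent.Lib.Helper11.MaxSubB
open scoped commutatorElement

universe u

variable {G : Type u} [Group G] [Finite G]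

theorem frattini_opPrime (hG : Cfsg.IsMinSimpleOddOrder G) (M : Subgroup G) (hM : IsCoatom M)
    (p : ℕ) [hp : Fact p.Prime] (hpσ : p ∉ Cfsg.sigma M) (hpM : p ∣ Nat.card M)
    (P : Subgroup G) (hP : IsSylowIn p P M) :
    M ≤ opPrimeOf M p ⊔ (M ⊓ Subgroup.normalizer (P : Set G)) := by
  obtain ⟨S, hS⟩ := hP.exists_sylow
  obtain ⟨-, hidx⟩ := index_primes_le hG M hM p hpσ hpM
  have hK : (Nat.card (Cfsg.pPrimeCore p ↥M)).Coprime p := Helper1.pPrimeCore_card_coprime p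
  have hn2 : (Cfsg.pPrimePCore p ↥M).Normal := by
    unfold Cfsg.pPrimePCore
    infer_instance
  have hGM : Cfsg.pPrimeCore p (↥M ⧸ Cfsg.pPrimePCore p ↥M) = ⊤ := by
    apply top_le_iff.mp
    apply Helper1.le_pPrimeCore (inferInstance : (⊤ : Subgroup _).Normal)
    rw [Subgroup.card_top, ← Subgroup.index_eq_card]
    exact hidx
  have h := Cfsg.Agent.S1461.frattini_aux p (Cfsg.pPrimeCore p ↥M) (Cfsg.pPrimePCore p ↥M) hK rfl
    hGM S
  intro m hm
  have h1 : (⟨m, hm⟩ : ↥M) ∈ Cfsg.pPrimeCore p ↥M ⊔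
      Subgroup.normalizer (((S : Subgroup ↥M)) : Set ↥M) := by
    rw [h]
    trivial
  have h2 : m ∈ (Cfsg.pPrimeCore p ↥M ⊔
      Subgroup.normalizer (((S : Subgroup ↥M)) : Set ↥M)).map M.subtype := ⟨⟨m, hm⟩, h1, rfl⟩
  rw [Subgroup.map_sup] at h2
  have h5 : (Subgroup.normalizer (((S : Subgroup ↥M)) : Set ↥M)).map M.subtype ≤
      M ⊓ Subgroup.normalizer (P : Set G) := ?_
  · exact (sup_le_sup (le_refl _) h5) h2
  rintro _ ⟨n, hn, rfl⟩
  refine ⟨n.2, ?_⟩
  apply mem_normalizer_of_conjSub_le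
  rintro _ ⟨x, hx, rfl⟩
  have hxM := hP.le hx
  have h3 : (⟨x, hxM⟩ : ↥M) ∈ (S : Subgroup ↥M) := by
    rw [hS]
    exact Subgroup.mem_subgroupOf.mpr hx
  have h4 := (Subgroup.mem_normalizer_iff.mp hn ⟨x, hxM⟩).mp h3
  rw [hS, Subgroup.mem_subgroupOf] at h4
  simpa using h4

theorem eleven_seven (hG : Cfsg.IsMinSimpleOddOrder G) (M : Subgroup G)
    (p : ℕ) [hp : Fact p.Prime] (A₀ A : Subgroup G) (hexc : Exc M p A₀ A)
    (hnil : Group.IsNilpotent (Cfsg.sigmaCore M))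
    (hfpf : ∃ X₁ X₂ : Subgroup G, X₁ ≤ A ∧ X₂ ≤ A ∧ Nat.card X₁ = p ∧ Nat.card X₂ = p ∧
      X₁ ≠ X₂ ∧ Cfsg.sigmaCore M ⊓ Subgroup.centralizer (X₁ : Set G) = ⊥ ∧
      Cfsg.sigmaCore M ⊓ Subgroup.centralizer (X₂ : Set G) = ⊥)
    (hP : ∃ P : Subgroup G, IsSylowIn p P M ∧ A ≤ P ∧
      M ⊓ Subgroup.normalizer (P : Set G) ≤ Subgroup.normalizer (A : Set G)) :
    M ≤ Subgroup.normalizer ((Cfsg.sigmaCore M ⊔ A : Subgroup G) : Set G) := by
  obtain ⟨hM, hpσ, hAM, hAe, hAc, -, -, -⟩ := hexc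
  obtain ⟨X₁, X₂, hX₁A, hX₂A, hX₁c, hX₂c, hne, hf₁, hf₂⟩ := hfpf
  obtain ⟨P, hPs, hAP, hNP⟩ := hP
  have hAp : IsPGroup p A := elemAb_isPGroup hAe
  have hpM : p ∣ Nat.card M := by
    have h1 : p ∣ Nat.card A := by
      rw [hAc]
      exact dvd_pow_self p (by norm_num)
    exact h1.trans (Subgroup.card_dvd_of_le hAM)
  have hfr := frattini_opPrime hG M hM p hpσ hpM P hPs
  have h1 : M ⊓ Subgroup.normalizer (P : Set G) ≤
      Subgroup.normalizer ((Cfsg.sigmaCore M ⊔ A : Subgroup G) : Set G) :=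
    Helper11.BenderP.le_normalizer_sup (inf_le_left.trans (le_normalizer_sigmaCore M)) hNP
  suffices hK : opPrimeOf M p ≤
      Subgroup.normalizer ((Cfsg.sigmaCore M ⊔ A : Subgroup G) : Set G) from
    hfr.trans (sup_le hK h1)
  rw [← Subgroup.relIndex_eq_one]
  by_contra hne1
  obtain ⟨r, hr, hrd⟩ := Nat.exists_prime_and_dvd hne1
  have : Fact r.Prime := ⟨hr⟩
  by_cases hrσ : r ∈ Cfsg.sigma M
  · have hσK : Cfsg.sigmaCore M ≤ opPrimeOf M p := by
      apply le_opPrimeOf M _ p (sigmaCore_le M) (le_normalizer_sigmaCore M)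
      apply Nat.Coprime.symm
      rw [Nat.Prime.coprime_iff_not_dvd hp.out]
      intro hd
      exact hpσ (sigmaCore_primes hG M hM p hp.out hd)
    have hσN : Cfsg.sigmaCore M ≤
        Subgroup.normalizer ((Cfsg.sigmaCore M ⊔ A : Subgroup G) : Set G) :=
      le_sup_left.trans Subgroup.le_normalizer
    have h2 := Subgroup.relIndex_dvd_of_le_left (opPrimeOf M p) hσN
    have h3 : (Cfsg.sigmaCore M).relIndex (opPrimeOf M p) ∣ (Cfsg.sigmaCore M).relIndex M :=
      ⟨_, (Subgroup.relIndex_mul_relIndex _ _ _ hσK (opPrimeOf_le M p)).symm⟩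
    exact (sigma_hall hG M hM).1.2.2 r hr hrσ ((hrd.trans h2).trans h3)
  · by_cases hrp : r = p
    · have h2 := hrd.trans (Subgroup.relIndex_dvd_card _ (opPrimeOf M p))
      rw [hrp] at h2
      have h3 := opPrimeOf_coprime M p
      rw [Nat.coprime_comm, Nat.Prime.coprime_iff_not_dvd hp.out] at h3
      exact h3 h2
    · have hAK : A ≤ Subgroup.normalizer ((opPrimeOf M p : Subgroup G) : Set G) :=
        hAM.trans (le_normalizer_opPrimeOf M p)
      have hcopAK : (Nat.card A).Coprime (Nat.card (opPrimeOf M p)) := by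
        rw [hAc]
        exact (opPrimeOf_coprime M p).symm.pow_left 2
      have hAs : Group.IsSolvable A := by
        have := hAp.isNilpotent
        infer_instance
      obtain ⟨Qr, hQr, hAQr, -⟩ := Helper11.BenderP.exists_inv_sylow_ge A (opPrimeOf M p) hAK
        hcopAK hAs r ⊥ bot_le IsPGroup.of_bot (by
          intro x _
          rw [Subgroup.mem_normalizer_iff]
          intro h
          simp)
      have hQrM : Qr ≤ M := hQr.le.trans (opPrimeOf_le M p)
      have hQC : Qr ≤ Subgroup.centralizer (A : Set G) := by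
        rcases lt_or_gt_of_ne hrp with hlt | hgt
        · exact claimA hG M hM p r hlt hrσ A hAM hAp Qr hQrM hQr.isPGroup hAQr
        · have hQrS : IsSylowIn r Qr M := by
            refine ⟨hQrM, hQr.isPGroup, fun hd => ?_⟩
            rw [← Subgroup.relIndex_mul_relIndex Qr (opPrimeOf M p) M hQr.le (opPrimeOf_le M p)]
              at hd
            rcases (Nat.Prime.dvd_mul hr).mp hd with h | h
            · exact hQr.not_dvd h
            · have := (index_primes_le hG M hM p hpσ hpM).1 r hr h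
              omega
          exact claimB hG M hM p hpσ A hAM hAe hAc hnil X₁ X₂ hX₁A hX₂A hX₁c hX₂c hne hf₁ hf₂ r
            hrp hrσ Qr hQrS hAQr
      have hQN : Qr ≤ Subgroup.normalizer ((Cfsg.sigmaCore M ⊔ A : Subgroup G) : Set G) :=
        Helper11.BenderP.le_normalizer_sup (hQrM.trans (le_normalizer_sigmaCore M))
          (hQC.trans (Subgroup.centralizer_le_normalizer _))
      have h2 := Subgroup.relIndex_dvd_of_le_left (opPrimeOf M p) hQN
      exact hQr.not_dvd (hrd.trans h2)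

end Cfsg.Agent.Lib.Helper1.BG11
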