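import Mathlib
import Cfsg.Agent.Lib.Helper1.BG11.ElevenSeven
import Cfsg.Agent.Lib.Helper11.ExcB

set_option autoImplicit false

namespace Cfsg.Agent.Lib.Helper1.BG11

open Cfsg.Agent.Lib Cfsg.Agent.Lib.Helper1.BG10 Cfsg.Agent.Lib.Helper1.BG12
open Cfsg.Agent.Lib.Helper18 Cfsg.Agent.Lib.Helper11.BenderM Cfsg.Agent.Lib.Helper11.BenderN
  Cfsg.Agent.Lib.Helper11.BenderO Cfsg.Agent.Lib.Helper11.MaxSubB
  Cfsg.Agent.Lib.Helper11.ExcA Cfsg.Agent.Lib.Helper11.ExcB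

universe u

variable {G : Type u} [Group G] [Finite G]

def HypOmega (G : Type u) [Group G] : Prop :=
  ∀ (M : Subgroup G) (p : ℕ) (A₀ A : Subgroup G), p.Prime → Exc M p A₀ A →
    ∀ P : Subgroup G, IsSylowIn p P M → A ≤ P → ∀ x ∈ P, x ^ p = 1 → x ∈ A

theorem mem_of_sq_mem_of_odd (hodd : Odd (Nat.card G)) {H : Subgroup G} {g : G}
    (h : g * g ∈ H) : g ∈ H := by
  have hg : Odd (orderOf g) := Odd.of_dvd_nat hodd (orderOf_dvd_natCard g)
  obtain ⟨j, hj⟩ := hg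
  have h1 : (g * g) ^ (j + 1) = g := by
    rw [← pow_two, ← pow_mul]
    have : 2 * (j + 1) = orderOf g + 1 := by omega
    rw [this, pow_succ, pow_orderOf_eq_one, one_mul]
  rw [← h1]
  exact H.pow_mem h _

theorem normalizer_le_of_omega (p : ℕ) (P A : Subgroup G) (hAP : A ≤ P)
    (hAe : ∀ a ∈ A, a ^ p = 1) (hΩ : ∀ x ∈ P, x ^ p = 1 → x ∈ A) :
    Subgroup.normalizer (P : Set G) ≤ Subgroup.normalizer (A : Set G) := by
  intro n hn
  apply mem_normalizer_of_conjSub_le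
  rintro _ ⟨a, ha, rfl⟩
  apply hΩ
  · exact (Subgroup.mem_normalizer_iff.mp hn a).mp (hAP ha)
  · change (n * a * n⁻¹) ^ p = 1
    rw [conj_pow, hAe a ha]
    group

theorem hyp117_of_omega (hG : Cfsg.IsMinSimpleOddOrder G) (hΩ : HypOmega G) : Hyp117 G := by
  intro M p A₀ A hp hexc
  haveI : Fact p.Prime := ⟨hp⟩
  have hM : IsCoatom M := hexc.1
  have hAe := hexc.2.2.2.1
  have hA₀A : A₀ ≤ A := hexc.2.2.2.2.2.1
  have hA₀c : Nat.card A₀ = p := hexc.2.2.2.2.2.2.1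
  have hNA₀ : Subgroup.normalizer (A₀ : Set G) ≤ M := hexc.2.2.2.2.2.2.2
  obtain ⟨P, hP, hAP, g, hgP, hgM⟩ := exists_sylow_normalizer hp hexc
  have hNPA : Subgroup.normalizer (P : Set G) ≤ Subgroup.normalizer (A : Set G) :=
    normalizer_le_of_omega p P A hAP hAe.2 (hΩ M p A₀ A hp hexc P hP hAP)
  have hgA : g ∈ Subgroup.normalizer (A : Set G) := hNPA hgP
  have hg2A : g * g ∈ Subgroup.normalizer (A : Set G) := Subgroup.mul_mem _ hgA hgA
  have hg2M : g * g ∉ M := fun h => hgM (mem_of_sq_mem_of_odd hG.1 h)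
  have hAg : ∀ x ∈ Subgroup.normalizer (A : Set G), A ≤ conjSub x M := by
    intro x hx
    rw [← conjSub_eq_of_mem_normalizer hx]
    exact conjSub_mono hexc.2.2.1
  have hXA : ∀ x ∈ Subgroup.normalizer (A : Set G), conjSub x A₀ ≤ A := by
    intro x hx
    rw [← conjSub_eq_of_mem_normalizer hx]
    exact conjSub_mono hA₀A
  apply eleven_seven hG M p A₀ A hexc (eleven_three hG h36_all hp hexc)
  · refine ⟨conjSub g A₀, conjSub (g * g) A₀, hXA g hgA, hXA _ hg2A, ?_, ?_, ?_,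
      eleven_two_b hG h36_all hp hexc g hgM (hAg g hgA),
      eleven_two_b hG h36_all hp hexc (g * g) hg2M (hAg _ hg2A)⟩
    · rw [card_conjSub, hA₀c]
    · rw [card_conjSub, hA₀c]
    · intro heq
      apply hgM
      apply hNA₀
      apply mem_normalizer_of_conjSub_le
      have h1 : conjSub g⁻¹ (conjSub g A₀) = conjSub g⁻¹ (conjSub (g * g) A₀) := by rw [heq]
      rw [conjSub_mul, conjSub_mul, inv_mul_cancel, conjSub_one, ← mul_assoc, inv_mul_cancel,
        one_mul] at h1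
      rw [← h1]
  · exact ⟨P, hP, hAP, inf_le_right.trans hNPA⟩

end Cfsg.Agent.Lib.Helper1.BG11
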